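import Groth.Agent.ZH85.FCurve.Genus
import Groth.Agent.FFLib.Weil.RH
import Groth.Agent.FFLib.Weil.NumerExt
import Groth.Agent.ZetaLib.PointsOfExt
import Groth.Prelude.Def_Curve

/-! Point counts of curves over finite fields. -/

noncomputable section

set_option linter.style.haveILetI false
set_option linter.unusedSectionVars false
set_option backward.isDefEq.respectTransparency false
set_option backward.isDefEq.respectTransparency.types false

universe u

open CategoryTheory CategoryTheory.Limits AlgebraicGeometry TopologicalSpace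

namespace Groth.Agent.ZH85.FCurve

attribute [local instance] CurveFF.ffAlg

variable (k : Type u) [Field k] {X : Scheme.{u}} [X.Over (Spec (CommRingCat.of k))] [IsIntegral X]
  [IsProper (X ↘ Spec (CommRingCat.of k))] [Smooth (X ↘ Spec (CommRingCat.of k))]
  (hdim : topologicalKrullDim X = 1)

include hdim

theorem degCount_eq (e : ℕ) :
    Zeta.degCount (X ↘ Spec (CommRingCat.of k)) e =
      Nat.card {P : FunFld.Place k X.functionField // P.deg = e} :=
  Nat.card_congr
    { toFun := fun z => ⟨pl k X hdim ⟨z.1, z.2.1⟩, (deg_pl k X hdim ⟨z.1, z.2.1⟩).trans z.2.2⟩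
      invFun := fun P => ⟨((pl k X hdim).symm P.1).1, ((pl k X hdim).symm P.1).2, by
        rw [← deg_pl k X hdim, Equiv.apply_symm_apply]; exact P.2⟩
      left_inv := fun z => Subtype.ext (by
        show ((pl k X hdim).symm (pl k X hdim ⟨z.1, z.2.1⟩)).1 = z.1
        rw [Equiv.symm_apply_apply])
      right_inv := fun P => Subtype.ext (Equiv.apply_symm_apply (pl k X hdim) P.1) }

theorem nPts_eq (n : ℕ) :
    Zeta.nPts (X ↘ Spec (CommRingCat.of k)) n = FFLib.placeCount k X.functionField n :=
  Finset.sum_congr rfl fun d _ => by rw [degCount_eq k hdim d]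

variable [Finite k] [GeometricallyIrreducible (X ↘ Spec (CommRingCat.of k))]

/-- The reciprocal roots of a curve over a finite field. -/
theorem exists_roots :
    ∃ α : Fin (2 * Curv2.genus k X) → ℂ, (∀ i, IsIntegral ℤ (α i)) ∧
      (∀ i, ‖α i‖ ^ 2 = (Nat.card k : ℝ)) ∧ (∀ i, α i * α (Fin.rev i) = (Nat.card k : ℂ)) ∧
      PowerSeries.map (Int.castRingHom ℂ) (FunFld.numerZ k X.functionField) =
        ((∏ i, (1 - Polynomial.C (α i) * Polynomial.X) : Polynomial ℂ) : PowerSeries ℂ) ∧
      ∀ n : ℕ, 1 ≤ n → (Zeta.nPts (X ↘ Spec (CommRingCat.of k)) n : ℂ) =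
        1 + (Nat.card k : ℂ) ^ n - ∑ i, α i ^ n := by
  have hK := isFunField k hdim (X := X)
  rw [← genus_eq k hdim (X := X)]
  obtain ⟨α, hint, hα, hpair⟩ := FFLib.exists_reciprocal_roots hK
  obtain ⟨β, hβ, hnorm⟩ := FFLib.norm_sq_root hK
  refine ⟨α, hint, fun i => ?_, hpair, hα, fun n hn => ?_⟩
  · have hq : (Nat.card k : ℂ) ≠ 0 := Nat.cast_ne_zero.2 Nat.card_pos.ne'
    have h0 : α i ≠ 0 := fun e => hq (by rw [← hpair i, e, zero_mul])
    have heq := Polynomial.coe_inj.1 (hα.symm.trans hβ)
    have h := congrArg (Polynomial.eval (α i)⁻¹) heq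
    rw [Polynomial.eval_prod, Polynomial.eval_prod,
      Finset.prod_eq_zero (Finset.mem_univ i) (by simp [h0])] at h
    obtain ⟨j, -, hj⟩ := Finset.prod_eq_zero_iff.1 h.symm
    simp only [Polynomial.eval_sub, Polynomial.eval_one, Polynomial.eval_mul, Polynomial.eval_C,
      Polynomial.eval_X] at hj
    have : α i = β j := by field_simp at hj; linear_combination hj
    rw [this, hnorm]
  · rw [nPts_eq k hdim, FFLib.placeCount_eq hK.1 α hα hn]

theorem exists_roots_pointCount :
    ∃ α : Fin (2 * Curv2.genus k X) → ℂ, (∀ i, IsIntegral ℤ (α i)) ∧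
      (∀ i, ‖α i‖ ^ 2 = (Nat.card k : ℝ)) ∧ (∀ i, α i * α (Fin.rev i) = (Nat.card k : ℂ)) ∧
      ∀ (k' : Type u) [Field k'] [Algebra k k'] [Finite k'],
        (SgaExt.pointCount (X ↘ Spec (CommRingCat.of k)) k' : ℂ) =
          (Nat.card k : ℂ) ^ Module.finrank k k' + 1 - ∑ i, α i ^ Module.finrank k k' := by
  obtain ⟨α, h1, h2, h3, -, h5⟩ := exists_roots k hdim (X := X)
  refine ⟨α, h1, h2, h3, fun k' _ _ _ => ?_⟩
  have : Module.Finite k k' := Module.Finite.of_finite
  rw [ZetaLib.pointCount_eq_nPts, h5 _ Module.finrank_pos]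
  ring

omit hdim [GeometricallyIrreducible (X ↘ Spec (CommRingCat.of k))] in
theorem genus_of_card {g : ℕ}
    (hg : Nat.card (Coh.HH X (Coh.structureModule X) 1) = Nat.card k ^ g) : Curv2.genus k X = g := by
  haveI := CurveCohLib.isNoetherian_of_proper (k := k) (X := X)
  haveI := CurveCohLib.finite_HH (k := k) (QCoh.isCoh_structureModule' (X := X)) 1
  rw [Module.natCard_eq_pow_finrank (K := k)] at hg
  exact Nat.pow_right_injective Finite.one_lt_card hg

end Groth.Agent.ZH85.FCurve
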