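import Groth.Agent.ZH85.FCurve.Pic
import Groth.Agent.FFLib.Weil.NumerExt
import Groth.Agent.ZetaLib.ZetaProduct

/-! The zeta function of a curve and the zeta series of its function field. -/

noncomputable section

set_option linter.style.haveILetI false
set_option linter.unusedSectionVars false
set_option backward.isDefEq.respectTransparency false
set_option backward.isDefEq.respectTransparency.types false

universe u

open CategoryTheory CategoryTheory.Limits AlgebraicGeometry TopologicalSpace

namespace Groth.Agent.ZH85.FCurve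

attribute [local instance] CurveFF.ffAlg

variable (k : Type u) [Field k] [Finite k] {X : Scheme.{u}} [X.Over (Spec (CommRingCat.of k))]
  [IsIntegral X] [IsProper (X ↘ Spec (CommRingCat.of k))] [Smooth (X ↘ Spec (CommRingCat.of k))]
  (hdim : topologicalKrullDim X = 1)

include hdim

/-- The zeta function of the curve is the zeta series of its function field. -/
theorem zetaFun_eq : Zeta.zetaFun (X ↘ Spec (CommRingCat.of k)) =
    PowerSeries.map (Int.castRingHom ℚ) (FunFld.zetaZ k X.functionField) := by
  have hF := isFF k X hdim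
  set W : PowerSeries ℚ :=
    PowerSeries.mk fun m => (FFLib.placeCount k X.functionField m : ℚ) with hWdef
  have h0 : PowerSeries.coeff 0 W = 0 := by simp [W, FFLib.placeCount]
  refine FFLib.eq_of_theta (G := W) h0 ?_ ?_ ?_
  · rw [PowerSeries.coeff_zero_eq_constantCoeff_apply, ZetaLib.constantCoeff_zetaFun,
      PowerSeries.coeff_map, FunFld.zetaZ, PowerSeries.coeff_mk, FFLib.effDivCount_zero hF]
    simp
  · have h := ZetaLib.hasLogDeriv_zetaFun (X ↘ Spec (CommRingCat.of k))
    rw [WeilLib.HasLogDeriv] at h
    rw [FFLib.theta, h, mul_comm W, ← mul_assoc, mul_comm PowerSeries.X, mul_assoc]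
    congr 1
    ext n
    rcases n with - | n
    · simp [W, FFLib.placeCount]
    · rw [PowerSeries.coeff_succ_X_mul, PowerSeries.coeff_mk, hWdef, PowerSeries.coeff_mk, nPts_eq k hdim]
  · ext m
    rw [FFLib.coeff_theta, PowerSeries.coeff_mul, PowerSeries.coeff_map, FunFld.zetaZ, PowerSeries.coeff_mk]
    have h := congrArg (Nat.cast : ℕ → ℚ) (FFLib.mul_effDivCount (k := k) (K := X.functionField) hF m)
    push_cast at h
    rw [show (Int.castRingHom ℚ) (FunFld.effDivCount k X.functionField m : ℤ) =
      (FunFld.effDivCount k X.functionField m : ℚ) by simp, h,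
      Finset.Nat.sum_antidiagonal_eq_sum_range_succ_mk]
    refine Finset.sum_subset_zero_on_sdiff
      (fun x hx => by simp only [Finset.mem_range, Finset.mem_Icc] at hx ⊢; omega)
      (fun x hx => ?_) (fun x hx => ?_)
    · simp only [Finset.mem_sdiff, Finset.mem_range, Finset.mem_Icc] at hx
      have : x = 0 := by omega
      simp [W, this, FFLib.placeCount]
    · simp [W, FunFld.zetaZ]

variable [GeometricallyIrreducible (X ↘ Spec (CommRingCat.of k))]

/-- The value at one of the numerator is the class number. -/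
theorem sum_coeff_numerZ :
    ∑ n ∈ Finset.range (2 * FunFld.genus k X.functionField + 1),
      PowerSeries.coeff n (FunFld.numerZ k X.functionField) = (FunFld.classNum k X.functionField : ℤ) := by
  classical
  have hK := isFunField k hdim (X := X)
  obtain ⟨D₁, h1⟩ := FFLib.exists_deg_one hK
  haveI := FFLib.finite_pic0 (k := k) hK.1
  haveI := Fintype.ofFinite (FFLib.Pic0 k X.functionField)
  set g := FunFld.genus k X.functionField
  set q : ℚ := (Nat.card k : ℚ)
  have hq : q ≠ 0 := by
    have : 0 < Nat.card k := Nat.card_pos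
    positivity
  have hq1 : q - 1 ≠ 0 := by
    have : 1 < Nat.card k := Finite.one_lt_card
    rw [sub_ne_zero]
    exact Nat.cast_ne_one.2 this.ne'
  let S : ℤ → ℚ := FFLib.secSum D₁
  have hsum : ∀ N : ℕ, (q - 1) * ∑ n ∈ Finset.range (N + 1),
      ((PowerSeries.coeff n (FunFld.numerZ k X.functionField) : ℤ) : ℚ) =
        S N - q * S ((N : ℤ) - 1) - S (-1) + q * S (-2) := by
    intro N
    induction N with
    | zero =>
      rw [Finset.sum_range_one, FFLib.coeff_numerZ_formula hK h1]
      simp only [S, Nat.cast_zero, zero_sub]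
      ring
    | succ N ih =>
      rw [Finset.sum_range_succ, mul_add, ih, FFLib.coeff_numerZ_formula hK h1]
      push_cast
      rw [show ((N : ℤ) + 1 - 1) = N by ring, show ((N : ℤ) + 1 - 2) = (N : ℤ) - 1 by ring]
      ring
  have h := hsum (2 * g)
  rw [show S (-1) = _ from FFLib.secSum_neg hK.1 h1 (by norm_num),
    show S (-2) = _ from FFLib.secSum_neg hK.1 h1 (by norm_num),
    show S ((2 * g : ℕ) : ℤ) = _ from FFLib.secSum_symm hK h1 _,
    show S (((2 * g : ℕ) : ℤ) - 1) = _ from FFLib.secSum_symm hK h1 _,
    FFLib.secSum_neg hK.1 h1 (by push_cast; omega), FFLib.secSum_neg hK.1 h1 (by push_cast; omega),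
    show ((2 * g : ℕ) : ℤ) + 1 - FunFld.genus k X.functionField = (g : ℤ) + 1 by push_cast; omega,
    show ((2 * g : ℕ) : ℤ) - 1 + 1 - FunFld.genus k X.functionField = (g : ℤ) by push_cast; omega,
    zpow_add_one₀ hq] at h
  refine Int.cast_injective (α := ℚ) (mul_left_cancel₀ hq1 ?_)
  push_cast
  rw [h]
  ring

/-- The zeta function has the shape `P / ((1-t)(1-qt))` with `P(1) = h`. -/
theorem exists_numerator :
    ∃ P : Polynomial ℤ, P.natDegree ≤ 2 * Curv2.genus k X ∧ P.coeff 0 = 1 ∧
      P.eval 1 = FunFld.classNum k X.functionField ∧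
      Zeta.zetaFun (X ↘ Spec (CommRingCat.of k)) *
          ((1 - PowerSeries.X) * (1 - PowerSeries.C (Nat.card k : ℚ) * PowerSeries.X)) =
        ((P.map (Int.castRingHom ℚ) : Polynomial ℚ) : PowerSeries ℚ) := by
  have hK := isFunField k hdim (X := X)
  obtain ⟨D₁, h1⟩ := FFLib.exists_deg_one hK
  haveI := FFLib.finite_pic0 (k := k) hK.1
  haveI := Fintype.ofFinite (FFLib.Pic0 k X.functionField)
  rw [← genus_eq k hdim (X := X)]
  set g := FunFld.genus k X.functionField
  let P := PowerSeries.trunc (2 * g + 1) (FunFld.numerZ k X.functionField)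
  have hPL : (P : PowerSeries ℤ) = FunFld.numerZ k X.functionField := by
    ext n
    rw [Polynomial.coeff_coe, PowerSeries.coeff_trunc]
    split_ifs with hn
    · rfl
    · exact (FFLib.numerZ_vanish hK h1 n (by omega)).symm
  have hdeg : P.natDegree ≤ 2 * g :=
    Nat.lt_succ_iff.1 (PowerSeries.natDegree_trunc_lt (FunFld.numerZ k X.functionField) (2 * g))
  refine ⟨P, hdeg, ?_, ?_, ?_⟩
  · have h := congrArg (PowerSeries.coeff 0) hPL
    rw [Polynomial.coeff_coe] at h
    rw [h, FFLib.constantCoeff_numerZ hK.1]
  · rw [Polynomial.eval_eq_sum_range' (Nat.lt_succ_of_le hdeg)]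
    refine Eq.trans (Finset.sum_congr rfl fun n hn => ?_) (sum_coeff_numerZ k hdim)
    rw [one_pow, mul_one, PowerSeries.coeff_trunc, if_pos (Finset.mem_range.1 hn)]
  · rw [zetaFun_eq k hdim, Polynomial.polynomial_map_coe, hPL, FunFld.numerZ]
    simp only [map_mul, map_sub, map_one, PowerSeries.map_X, PowerSeries.map_C]
    simp only [eq_intCast, Int.cast_natCast]
    ring

end Groth.Agent.ZH85.FCurve
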