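import Groth.Agent.ZH85.FCurve.Count
import Groth.Agent.FFLib.Numer
import Groth.Agent.Lib.CurveDualPrep
import Groth.Agent.CurveCohLib.Nonspecial

/-! Isomorphism classes of invertible modules as divisor classes of the function field. -/

noncomputable section

set_option linter.style.haveILetI false
set_option linter.unusedSectionVars false
set_option backward.isDefEq.respectTransparency false
set_option backward.isDefEq.respectTransparency.types false

universe u

open CategoryTheory CategoryTheory.Limits AlgebraicGeometry TopologicalSpace Opposite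
open Groth.Agent.CurveCohLib.Polar (InR eta_mem gη)
open Groth.Agent.AModX (res resR)
open Groth.Agent.CurveFF (Pt gM gM_res gM_smul ratio ratio_spec ratio_eq ratio_ne_zero ratio_trans exists_coord_ratio)

namespace Groth.Agent.ZH85.FCurve

attribute [local instance] CurveFF.ffAlg

variable (k : Type u) [Field k] {X : Scheme.{u}} [X.Over (Spec (CommRingCat.of k))]
  [IsIntegral X] [IsProper (X ↘ Spec (CommRingCat.of k))] [Smooth (X ↘ Spec (CommRingCat.of k))]
  (hdim : topologicalKrullDim X = 1)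

/-- Divisor classes of the function field. -/
abbrev DivCl (X : Scheme.{u}) [X.Over (Spec (CommRingCat.of k))] [IsIntegral X] :=
  FunFld.Divisor k X.functionField ⧸ FunFld.prinDivs k X.functionField

variable {k}

section

variable {M : X.Modules} (hM : PicF.IsInvertible M) {U₀ : X.Opens} {e₀ : Γ(M, U₀)}
  (he₀ : InvX.IsFrame e₀) (h₀ : genericPoint X ∈ U₀)

variable (k) in
theorem divisor_res {U₁ : X.Opens} (h : U₁ ≤ U₀) (h₁ : genericPoint X ∈ U₁) :
    divisor k hdim hM (he₀.res h) h₁ = divisor k hdim hM he₀ h₀ := by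
  ext P
  obtain ⟨z, rfl⟩ := (pl k X hdim).surjective P
  refine WithZero.exp_injective ?_
  have hU := eta_mem (mem_chartU hM z)
  rw [exp_divisor k hdim hM (he₀.res h) h₁ (isFrame_chartE hM z) hU (mem_chartU hM z),
    exp_divisor k hdim hM he₀ h₀ (isFrame_chartE hM z) hU (mem_chartU hM z)]
  congr 1
  refine ratio_eq (he₀.res h) ?_
  rw [gM_res h h₁, ratio_spec]

variable (k) in
/-- Changing the rational frame changes the divisor by a principal one. -/
theorem divisor_sub_mem {U₁ : X.Opens} {e₁ : Γ(M, U₁)} (he₁ : InvX.IsFrame e₁)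
    (h₁ : genericPoint X ∈ U₁) :
    divisor k hdim hM he₀ h₀ - divisor k hdim hM he₁ h₁ ∈ FunFld.prinDivs k X.functionField := by
  have hF := isFF k X hdim
  have hc := ratio_ne_zero he₁ h₁ he₀ h₀
  refine (FFLib.mem_prinDivs hF).2 ⟨_, hc, ?_⟩
  ext P
  obtain ⟨z, rfl⟩ := (pl k X hdim).surjective P
  rw [FFLib.div_apply hF, Finsupp.sub_apply]
  have hU := eta_mem (mem_chartU hM z)
  have e1 := exp_divisor k hdim hM he₁ h₁ (isFrame_chartE hM z) hU (mem_chartU hM z)
  have e0 := exp_divisor k hdim hM he₀ h₀ (isFrame_chartE hM z) hU (mem_chartU hM z)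
  rw [ratio_trans he₁ h₁ he₀ h₀ hU, map_mul, ← e0, FFLib.val_eq_exp _ hc, ← WithZero.exp_add,
    WithZero.exp_inj] at e1
  linarith

variable (k) in
theorem deg_divisor [GeometricallyIrreducible (X ↘ Spec (CommRingCat.of k))] :
    (divisor k hdim hM he₀ h₀).deg = Curv2.deg k X M 1 := by
  obtain ⟨⟨U, hU, hle, h⟩, -⟩ := deg_and_genus k hdim hM h₀ he₀
  rw [h, divisor_res k hdim hM he₀ h₀ hle hU]

end

variable (k)

/-- The divisor class of an invertible module. -/
def cls (M : X.Modules) (hM : PicF.IsInvertible M) : DivCl k X :=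
  QuotientAddGroup.mk (divisor k hdim hM
    (InvX.exists_frame hM (genericPoint X)).choose_spec.choose_spec.choose_spec
    (InvX.exists_frame hM (genericPoint X)).choose_spec.choose)

theorem cls_eq {M : X.Modules} (hM : PicF.IsInvertible M) {U₀ : X.Opens} {e₀ : Γ(M, U₀)}
    (he₀ : InvX.IsFrame e₀) (h₀ : genericPoint X ∈ U₀) :
    cls k hdim M hM = QuotientAddGroup.mk (divisor k hdim hM he₀ h₀) :=
  (QuotientAddGroup.eq_iff_sub_mem).2 (divisor_sub_mem k hdim hM _ _ he₀ h₀)

theorem cls_iso {M N : X.Modules} (hM : PicF.IsInvertible M) (hN : PicF.IsInvertible N) (φ : M ≅ N) :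
    cls k hdim M hM = cls k hdim N hN := by
  obtain ⟨U, hU, e, he⟩ := InvX.exists_frame hM (genericPoint X)
  rw [cls_eq k hdim hM he hU, cls_eq k hdim hN (InvX.IsFrame.map_iso φ he) hU,
    divisor_iso k hdim hM he hU hN φ]

theorem cls_tensor {M N : X.Modules} (hM : PicF.IsInvertible M) (hN : PicF.IsInvertible N) :
    cls k hdim (CohB1.tensorMod M N) (InvX.isInvertible_tensorMod hM hN) =
      cls k hdim M hM + cls k hdim N hN := by
  obtain ⟨U, hU, a, b, ha, hb⟩ := InvX.exists_frame₂ hM hN (genericPoint X)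
  rw [cls_eq k hdim hM ha hU, cls_eq k hdim hN hb hU,
    cls_eq k hdim _ (InvX.isFrame_tmul ha hb) hU, divisor_tensor k hdim hM ha hU hN hb]
  rfl

theorem cls_structure :
    cls k hdim (Coh.structureModule X) InvX.isInvertible_structureModule = 0 := by
  have h := cls_tensor k hdim (InvX.isInvertible_structureModule (X := X)) InvX.isInvertible_structureModule
  obtain ⟨e⟩ := H23.PicMul.unit (Coh.structureModule X)
  rw [cls_iso k hdim _ InvX.isInvertible_structureModule e] at h
  exact left_eq_add.1 h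

/-- The inverse of an invertible module has the opposite class. -/
theorem exists_neg {M : X.Modules} (hM : PicF.IsInvertible M) :
    ∃ (D : X.Modules) (hD : PicF.IsInvertible D),
      Nonempty (CohB1.tensorMod M D ≅ Coh.structureModule X) ∧ cls k hdim D hD = -cls k hdim M hM := by
  obtain ⟨D, hD, ⟨e⟩⟩ := H23.PicInv.exists_inverse hM
  refine ⟨D, hD, ⟨e⟩, ?_⟩
  have h := cls_tensor k hdim hM hD
  rw [cls_iso k hdim _ InvX.isInvertible_structureModule e, cls_structure] at h
  exact eq_neg_of_add_eq_zero_right h.symm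

/-- The degree of a divisor class. -/
theorem deg_out_eq {D E : FunFld.Divisor k X.functionField}
    (hK : FunFld.IsFunctionField k X.functionField)
    (h : D - E ∈ FunFld.prinDivs k X.functionField) : D.deg = E.deg := by
  obtain ⟨z, hz, hz'⟩ := (FFLib.mem_prinDivs hK.1).1 h
  rw [show D = E + FunFld.div k z by rw [hz']; abel, FFLib.Divisor.deg_add, FFLib.deg_div hK.1 z, add_zero]

variable [GeometricallyIrreducible (X ↘ Spec (CommRingCat.of k))]

theorem deg_eq_of_cls {M : X.Modules} (hM : PicF.IsInvertible M) {D : FunFld.Divisor k X.functionField}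
    (h : cls k hdim M hM = QuotientAddGroup.mk D) : Curv2.deg k X M 1 = D.deg := by
  obtain ⟨U, hU, e, he⟩ := InvX.exists_frame hM (genericPoint X)
  rw [cls_eq k hdim hM he hU, QuotientAddGroup.eq_iff_sub_mem] at h
  rw [← deg_divisor k hdim hM he hU, deg_out_eq k (isFunField k hdim) h]

/-- A module of trivial class is trivial. -/
theorem nonempty_iso_of_cls_eq_zero {M : X.Modules} (hM : PicF.IsInvertible M)
    (h : cls k hdim M hM = 0) : Nonempty (M ≅ Coh.structureModule X) := by
  haveI := CurveCohLib.isNoetherian_of_proper (k := k) (X := X)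
  have hK := isFunField k hdim (X := X)
  have hdeg := deg_eq_of_cls k hdim hM (D := 0) h
  rw [FFLib.Divisor.deg_zero] at hdeg
  obtain ⟨U, hU, e, he⟩ := InvX.exists_frame hM (genericPoint X)
  have h0 : Module.finrank k (Coh.HH X M 0) = 1 := by
    rw [finrank_h0_eq_ell k hdim hM he hU, FFLib.ell_congr hK.1 (E := 0), FFLib.ell_zero hK]
    rw [← QuotientAddGroup.eq_iff_sub_mem, ← cls_eq k hdim hM he hU, h]
    rfl
  obtain ⟨s, hs⟩ := CurveRR.exists_hom_ne_zero (P := M) k (by omega)
  obtain ⟨h1, h2⟩ := CurveDeg.deg_le_and_isIso k hdim.le CurveDeg.isInvertible_structureModule hM s hs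
  rw [CurveDeg.deg_structureModule] at h1 h2
  haveI := h2 hdeg.symm
  exact ⟨(asIso s).symm⟩

theorem nonempty_iso_of_cls_eq {M N : X.Modules} (hM : PicF.IsInvertible M) (hN : PicF.IsInvertible N)
    (h : cls k hdim M hM = cls k hdim N hN) : Nonempty (M ≅ N) := by
  obtain ⟨D, hD, ⟨e⟩, hneg⟩ := exists_neg k hdim hN
  obtain ⟨φ⟩ := nonempty_iso_of_cls_eq_zero k hdim (InvX.isInvertible_tensorMod hM hD)
    (by rw [cls_tensor k hdim hM hD, hneg, h, add_neg_cancel])
  let _ := H23.PicMul.clMonoid X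
  have h1 : PicF.cl N * PicF.cl D = 1 := (PicGrp.cl_eq_cl_iff _ _).2 ⟨e⟩
  have h2 : PicF.cl M * PicF.cl D = 1 := (PicGrp.cl_eq_cl_iff _ _).2 ⟨φ⟩
  refine (PicGrp.cl_eq_cl_iff _ _).1 ?_
  calc PicF.cl M = PicF.cl M * (PicF.cl N * PicF.cl D) := by rw [h1, mul_one]
    _ = PicF.cl M * PicF.cl D * PicF.cl N := by rw [mul_comm (PicF.cl N), mul_assoc]
    _ = PicF.cl N := by rw [h2, one_mul]

omit [GeometricallyIrreducible (X ↘ Spec (CommRingCat.of k))]

/-- Local equations of an effective divisor. -/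
theorem exists_eqns_divisor (D : FunFld.Divisor k X.functionField) (hD : 0 ≤ D) :
    ∃ E : CurveCohLib.Polar.Eqns X, E.A (genericPoint X) = 1 ∧
      ∀ z : Pt X, (pl k X hdim z).ord (E.A z.1) = D (pl k X hdim z) := by
  classical
  have hF := isFF k X hdim
  choose t ht0 ht using fun z : Pt X => FFLib.exists_val_eq_exp (pl k X hdim z) (-D (pl k X hdim z))
  let A : X → X.functionField := fun x => if hx : IsClosed ({x} : Set X) then t ⟨x, hx⟩ else 1
  have hA0 : ∀ x, A x ≠ 0 := fun x => by
    dsimp only [A]; split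
    · exact ht0 _
    · exact one_ne_zero
  have hord : ∀ z : Pt X, (pl k X hdim z).ord (A z.1) = D (pl k X hdim z) := fun z => by
    dsimp only [A]; rw [dif_pos z.2]
    exact FFLib.ord_of_val_eq _ (ht z)
  have hAη : A (genericPoint X) = 1 := by
    dsimp only [A]
    refine dif_neg fun hc => ?_
    obtain ⟨z⟩ : Nonempty (Pt X) := ⟨(pl k X hdim).symm (FFLib.exists_place hF).some⟩
    have h := (genericPoint_specializes z.1).mem_closed hc (Set.mem_singleton _)
    have hz : IsClosed ({genericPoint X} : Set X) := hc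
    have : ∀ y : X, y = genericPoint X := fun y =>
      (genericPoint_specializes y).mem_closed hz (Set.mem_singleton _)
    haveI : Subsingleton X := ⟨fun a b => (this a).trans (this b).symm⟩
    have hle : topologicalKrullDim X ≤ 0 := by
      haveI : Subsingleton (TopologicalSpace.IrreducibleCloseds X) := ⟨fun a b => by
        refine TopologicalSpace.IrreducibleCloseds.ext ?_
        rw [Set.Subsingleton.eq_singleton_of_mem Set.subsingleton_of_subsingleton a.isIrreducible.nonempty.choose_spec,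
          Set.Subsingleton.eq_singleton_of_mem Set.subsingleton_of_subsingleton b.isIrreducible.nonempty.choose_spec,
          Subsingleton.elim a.isIrreducible.nonempty.choose b.isIrreducible.nonempty.choose]⟩
      exact Order.krullDim_nonpos_of_subsingleton
    rw [hdim] at hle
    exact absurd hle (by decide)
  refine ⟨⟨A, hA0, fun x => ?_, fun x => ?_⟩, hAη, hord⟩
  · rcases eq_or_isClosed k X hdim x with rfl | hx
    · rw [hAη]; exact CurveCohLib.Polar.inR_one _
    · refine (inR_iff k X hdim ⟨x, hx⟩ _).2 ((FFLib.val_le_one_iff _ (hA0 x)).2 ?_)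
      rw [hord ⟨x, hx⟩]; exact hD _
  · let bad : Set X := Subtype.val '' {z : Pt X | z.1 ≠ x ∧ (pl k X hdim z).ord (A x) ≠ D (pl k X hdim z)}
    have hfin : bad.Finite := by
      refine Set.Finite.image _ ?_
      have h1 := ((FFLib.finite_support_ord hF (A x)).union D.support.finite_toSet).image (pl k X hdim).symm
      refine h1.subset fun z hz => ⟨pl k X hdim z, ?_, Equiv.symm_apply_apply _ _⟩
      by_contra hcon
      simp only [Set.mem_union, Set.mem_setOf_eq, Finset.mem_coe, Finsupp.mem_support_iff, not_or,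
        not_not, Function.mem_support] at hcon
      exact hz.2 (by rw [hcon.1, hcon.2])
    have hclosed : IsClosed bad := by
      rw [← Set.biUnion_of_singleton bad]
      exact hfin.isClosed_biUnion fun y hy => by
        obtain ⟨z, -, rfl⟩ := hy
        exact z.2
    refine ⟨⟨badᶜ, hclosed.isOpen_compl⟩, fun ⟨z, hz, hzx⟩ => hz.1 hzx, fun y hy => ?_⟩
    rcases eq_or_isClosed k X hdim y with rfl | hyc
    · exact ⟨⟨_, CurveFF.algebraMap_generic X _⟩, ⟨_, CurveFF.algebraMap_generic X _⟩⟩
    have he : (pl k X hdim ⟨y, hyc⟩).ord (A x) = (pl k X hdim ⟨y, hyc⟩).ord (A y) := by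
      rw [hord ⟨y, hyc⟩]
      by_contra hne
      rcases eq_or_ne y x with rfl | hyx
      · exact hne (hord ⟨y, hyc⟩)
      · exact hy ⟨⟨y, hyc⟩, ⟨hyx, hne⟩, rfl⟩
    constructor <;> refine (inR_iff k X hdim ⟨y, hyc⟩ _).2 ?_ <;>
      rw [FFLib.val_le_one_iff _ (div_ne_zero (hA0 _) (hA0 _)), div_eq_mul_inv,
        FFLib.ord_mul _ (hA0 _) (inv_ne_zero (hA0 _)), FFLib.ord_inv, he, add_neg_cancel]

/-- The class of the module of an effective divisor. -/
theorem exists_of_effective (D : FunFld.Divisor k X.functionField) (hD : 0 ≤ D) :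
    ∃ (M : X.Modules) (hM : PicF.IsInvertible M), cls k hdim M hM = QuotientAddGroup.mk D := by
  obtain ⟨E, hEη, hE⟩ := exists_eqns_divisor k hdim D hD
  have hM := CurveCohLib.Polar.isInvertible_mod E 1
  obtain ⟨U₀, h₀, e₀, he₀, hv₀⟩ := CurveCohLib.Polar.exists_mod_frame E 1 (genericPoint X)
  refine ⟨_, hM, (cls_eq k hdim hM he₀ h₀).trans (congrArg _ ?_)⟩
  ext P
  obtain ⟨z, rfl⟩ := (pl k X hdim).surjective P
  refine WithZero.exp_injective ?_
  obtain ⟨U, hz, e, he, hv⟩ := CurveCohLib.Polar.exists_mod_frame E 1 z.1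
  have hU := eta_mem hz
  rw [exp_divisor k hdim hM he₀ h₀ he hU hz]
  have hW : genericPoint X ∈ U₀ ⊓ U := ⟨h₀, hU⟩
  obtain ⟨g, hg, hgr⟩ := exists_coord_ratio he₀ (inf_le_left : U₀ ⊓ U ≤ U₀) hW
    (res (CurveCohLib.Polar.mod E 1) inf_le_right e)
  have e1 : ratio he₀ h₀ hU e = X.presheaf.germ (U₀ ⊓ U) _ hW g := by
    rw [← hgr]
    exact ratio_eq he₀ (by rw [ratio_spec, gM_res])
  have h2 := congrArg (CurveCohLib.Polar.v E hW) hg
  rw [CurveCohLib.Polar.v_res inf_le_right hW hU, hv hU, CurveCohLib.Polar.v_smul,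
    CurveCohLib.Polar.v_res inf_le_left hW h₀, hv₀ h₀, hEη, one_pow, inv_one, mul_one, pow_one] at h2
  have h3 : ratio he₀ h₀ hU e = (E.A z.1)⁻¹ := e1.trans h2.symm
  rw [h3, map_inv₀, FFLib.val_eq_exp _ (E.ne z.1), hE, WithZero.exp_neg, inv_inv]

theorem exists_of_divisor (D : FunFld.Divisor k X.functionField) :
    ∃ (M : X.Modules) (hM : PicF.IsInvertible M), cls k hdim M hM = QuotientAddGroup.mk D := by
  obtain ⟨M, hM, h1⟩ := exists_of_effective k hdim (D ⊔ 0) le_sup_right
  obtain ⟨N, hN, h2⟩ := exists_of_effective k hdim ((D ⊔ 0) - D) (sub_nonneg.2 le_sup_left)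
  obtain ⟨N', hN', -, h3⟩ := exists_neg k hdim hN
  refine ⟨_, InvX.isInvertible_tensorMod hM hN', ?_⟩
  rw [cls_tensor k hdim hM hN', h3, h1, h2, ← QuotientAddGroup.mk_neg, ← QuotientAddGroup.mk_add]
  congr 1
  abel

variable [GeometricallyIrreducible (X ↘ Spec (CommRingCat.of k))]

include hdim in
/-- Invertible modules of degree `m` against divisor classes of degree zero. -/
theorem nonempty_equiv [Finite k] (m : ℤ) :
    Nonempty ({c : PicF.Cl X // ∃ L : X.Modules, PicF.cl L = c ∧ PicF.IsInvertible L ∧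
        Curv2.deg k X L 1 = m} ≃ FFLib.Pic0 k X.functionField) := by
  have hK := isFunField k hdim (X := X)
  obtain ⟨D₁, hD₁⟩ := FFLib.exists_deg_one hK
  let T := {c : PicF.Cl X // ∃ L : X.Modules, PicF.cl L = c ∧ PicF.IsInvertible L ∧
        Curv2.deg k X L 1 = m}
  have key : ∀ c : T, ∃ (L : X.Modules) (hL : PicF.IsInvertible L) (x : FFLib.Pic0 k X.functionField),
      PicF.cl L = c.1 ∧ cls k hdim L hL = QuotientAddGroup.mk (m • D₁ + FFLib.rep x) := by
    rintro ⟨c, L, hc, hL, hd⟩
    obtain ⟨D, hD⟩ := QuotientAddGroup.mk_surjective (cls k hdim L hL)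
    have hdeg : (D - m • D₁).deg = 0 := by
      have e1 : D.deg = m := by rw [← deg_eq_of_cls k hdim hL hD.symm, hd]
      have e2 : (D - m • D₁).deg = D.deg - (m • D₁).deg :=
        map_sub (FunFld.degHom k X.functionField) D (m • D₁)
      rw [e2, e1, FFLib.deg_zsmul, hD₁, mul_one, sub_self]
    refine ⟨L, hL, QuotientAddGroup.mk ⟨_, hdeg⟩, hc, hD.symm.trans (QuotientAddGroup.eq_iff_sub_mem.2 ?_)⟩
    have h := (FFLib.mk_eq_iff hdeg _).1 rfl
    rwa [sub_sub] at h
  choose L hL x hc hx using key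
  refine ⟨Equiv.ofBijective x ⟨fun a b h => ?_, fun y => ?_⟩⟩
  · obtain ⟨e⟩ := nonempty_iso_of_cls_eq k hdim (hL a) (hL b) (by rw [hx a, hx b, h])
    exact Subtype.ext ((hc a).symm.trans (((PicGrp.cl_eq_cl_iff _ _).2 ⟨e⟩).trans (hc b)))
  · obtain ⟨M, hM, hcls⟩ := exists_of_divisor k hdim (m • D₁ + FFLib.rep y)
    have hd : Curv2.deg k X M 1 = m := by
      rw [deg_eq_of_cls k hdim hM hcls, FFLib.Divisor.deg_add, FFLib.deg_zsmul, hD₁, FFLib.deg_rep]
      ring
    let c : T := ⟨PicF.cl M, M, rfl, hM, hd⟩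
    refine ⟨c, ?_⟩
    obtain ⟨e⟩ := (PicGrp.cl_eq_cl_iff _ _).1 (show PicF.cl (L c) = PicF.cl M from hc c)
    have h := (hx c).symm.trans ((cls_iso k hdim (hL c) hM e).trans hcls)
    rw [QuotientAddGroup.eq_iff_sub_mem, add_sub_add_left_eq_sub] at h
    rw [← QuotientAddGroup.out_eq' (x c), ← QuotientAddGroup.out_eq' y]
    exact (FFLib.mk_eq_mk_iff (FFLib.deg_rep _) (FFLib.deg_rep _)).2 h

end Groth.Agent.ZH85.FCurve
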