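import Groth.Agent.ZH85.FCurve.Count
import Mathlib.Data.Nat.Prime.Infinite
import Mathlib.Analysis.SpecificLimits.Basic

/-! Closed points of large prime degree on a curve over a finite field. -/

noncomputable section

set_option linter.style.haveILetI false
set_option linter.unusedSectionVars false
set_option backward.isDefEq.respectTransparency false
set_option backward.isDefEq.respectTransparency.types false

universe u

open CategoryTheory CategoryTheory.Limits AlgebraicGeometry TopologicalSpace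

namespace Groth.Agent.ZH85.FCurve

variable (k : Type u) [Field k] [Finite k] {X : Scheme.{u}} [X.Over (Spec (CommRingCat.of k))] [IsIntegral X]
  [IsProper (X ↘ Spec (CommRingCat.of k))] [Smooth (X ↘ Spec (CommRingCat.of k))]
  [GeometricallyIrreducible (X ↘ Spec (CommRingCat.of k))] (hdim : topologicalKrullDim X = 1)

include hdim

theorem exists_prime_degCount_pos :
    ∃ M : ℕ, ∀ p : ℕ, p.Prime → M ≤ p → 0 < Zeta.degCount (X ↘ Spec (CommRingCat.of k)) p := by
  obtain ⟨α, -, hn, -, -, hN⟩ := exists_roots k hdim (X := X)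
  generalize Curv2.genus k X = g at α hn hN
  set q : ℝ := (Nat.card k : ℝ)
  set B : ℕ := Zeta.degCount (X ↘ Spec (CommRingCat.of k)) 1
  have hq : 1 < q := by
    show (1 : ℝ) < (Nat.card k : ℝ)
    exact_mod_cast (Finite.one_lt_card (α := k))
  set s := Real.sqrt q
  have hs : 1 < s := by
    rw [← Real.sqrt_one]; exact Real.sqrt_lt_sqrt zero_le_one hq
  obtain ⟨M, hM⟩ := pow_unbounded_of_one_lt ((2 * g : ℝ) + B) hs
  refine ⟨M, fun p hp hMp => Nat.pos_of_ne_zero fun h0 => ?_⟩
  have h : Zeta.nPts (X ↘ Spec (CommRingCat.of k)) p = B := by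
    rw [Zeta.nPts, hp.sum_divisors, h0, mul_zero, zero_add, one_mul]
  have hc := hN p hp.one_le
  rw [h] at hc
  have heq : ((∑ i, α i ^ p : ℂ)) = ((1 + q ^ p - (B : ℝ) : ℝ) : ℂ) := by
    push_cast [q]
    linear_combination hc
  have hnorm : ‖(∑ i, α i ^ p : ℂ)‖ ≤ (2 * g : ℝ) * s ^ p := by
    refine (norm_sum_le _ _).trans (le_of_eq ?_)
    rw [Finset.sum_congr rfl fun i _ => show ‖α i ^ p‖ = s ^ p by
      rw [norm_pow, ← Real.sqrt_sq (norm_nonneg (α i)), hn i]]
    rw [Finset.sum_const, Finset.card_univ, Fintype.card_fin, nsmul_eq_mul]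
    push_cast
    rfl
  rw [heq, Complex.norm_real, Real.norm_eq_abs] at hnorm
  have h2 : q ^ p = s ^ p * s ^ p := by
    rw [← mul_pow, Real.mul_self_sqrt (by linarith)]
  have hsp : (2 * g : ℝ) + B < s ^ p := hM.trans_le (pow_le_pow_right₀ hs.le hMp)
  have h1 : 1 ≤ s ^ p := one_le_pow₀ hs.le
  have := (le_abs_self _).trans hnorm
  have hB : (0 : ℝ) ≤ B := Nat.cast_nonneg B
  nlinarith

theorem exists_coprime_degrees :
    ∃ x y : X, IsClosed ({x} : Set X) ∧ IsClosed ({y} : Set X) ∧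
      Nat.Coprime (EGA4loc.residueDegree (X ↘ Spec (CommRingCat.of k)) x)
        (EGA4loc.residueDegree (X ↘ Spec (CommRingCat.of k)) y) := by
  obtain ⟨M, hM⟩ := exists_prime_degCount_pos k hdim (X := X)
  obtain ⟨p, hp, hpp⟩ := Nat.exists_infinite_primes M
  obtain ⟨p', hp', hpp'⟩ := Nat.exists_infinite_primes (p + 1)
  obtain ⟨⟨x, hx, hxd⟩⟩ := (Nat.card_pos_iff.1 (hM p hpp hp)).1
  obtain ⟨⟨y, hy, hyd⟩⟩ := (Nat.card_pos_iff.1 (hM p' hpp' (by omega))).1
  exact ⟨x, y, hx, hy, by rw [hxd, hyd]; exact (Nat.coprime_primes hpp hpp').2 (by omega)⟩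

end Groth.Agent.ZH85.FCurve
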