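import Groth.Agent.ZH85.FCurve.Divisor
import Groth.Agent.CurveCohLib.PolarHom
import Groth.Agent.CurveVA.Vanish
import Groth.Agent.Lib.CurveRR
import Groth.Agent.GeomField.GlobalFunctions
import Groth.Agent.CurveFF.Degree

/-! The two genera and the two degrees agree over an arbitrary field. -/

noncomputable section

set_option linter.style.haveILetI false
set_option linter.unusedSectionVars false
set_option backward.isDefEq.respectTransparency false
set_option backward.isDefEq.respectTransparency.types false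

universe u

open CategoryTheory CategoryTheory.Limits AlgebraicGeometry TopologicalSpace Opposite
open Groth.Agent.CurveCohLib.Polar

namespace Groth.Agent.ZH85.FCurve

attribute [local instance] CurveFF.ffAlg GeomField.globalAlgebra

variable (k : Type u) [Field k] {X : Scheme.{u}} [X.Over (Spec (CommRingCat.of k))] [IsIntegral X]
  [IsProper (X ↘ Spec (CommRingCat.of k))] [Smooth (X ↘ Spec (CommRingCat.of k))]
  (hdim : topologicalKrullDim X = 1)

theorem cK_eq (a : k) : cK (X := X) k a = algebraMap k X.functionField a := by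
  rfl

include k hdim

theorem inR_or (z : X) (c : X.functionField) : InR z c ∨ InR z c⁻¹ := by
  rcases eq_or_isClosed k X hdim z with rfl | hz
  · exact Or.inl ⟨c, CurveFF.algebraMap_generic X c⟩
  · rcases le_total ((pl k X hdim ⟨z, hz⟩).1 c) 1 with h | h
    · exact Or.inl ((inR_iff k X hdim ⟨z, hz⟩ c).2 h)
    · refine Or.inr ((inR_iff k X hdim ⟨z, hz⟩ _).2 ?_)
      rw [map_inv₀]
      exact inv_le_one_of_one_le₀ h

open scoped Classical in
theorem exists_eqns_of_ne_zero {x : X.functionField} (hx0 : x ≠ 0) :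
    ∃ D : Eqns X, ∀ z, InR z (D.A z) ∧ InR z (D.A z * x) := by
  classical
  have hone : ∀ z : X, InR z (1 : X.functionField) := fun z => inR_one z
  refine ⟨{ A := fun z => if InR z x then 1 else x⁻¹
            ne := fun z => by split_ifs <;> simp [hx0]
            inR := fun z => by
              split_ifs with h
              · exact hone z
              · exact (inR_or k hdim z x).resolve_left h
            loc := fun z => ?_ }, fun z => ?_⟩
  · by_cases h : InR z x
    · obtain ⟨W, hzW, r, hr⟩ := exists_gη_of_inR h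
      have hW : ∀ z' ∈ W, InR z' x := fun z' hz' => by
        have := inR_gη hz' r
        rw [← gη_res (le_refl W) hzW hz', AModX.resR_self] at this
        rwa [hr] at this
      exact ⟨W, hzW, fun z' hz' => by
        rw [if_pos h, if_pos (hW z' hz'), div_one]; exact ⟨hone z', hone z'⟩⟩
    · obtain ⟨W, hzW, r, hr⟩ := exists_gη_of_inR ((inR_or k hdim z x).resolve_left h)
      have hW : ∀ z' ∈ W, InR z' x⁻¹ := fun z' hz' => by
        have := inR_gη hz' r
        rw [← gη_res (le_refl W) hzW hz', AModX.resR_self] at this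
        rwa [hr] at this
      refine ⟨W, hzW, fun z' hz' => ?_⟩
      rw [if_neg h]
      by_cases h' : InR z' x
      · rw [if_pos h', div_one, one_div, inv_inv]; exact ⟨hW z' hz', h'⟩
      · rw [if_neg h', div_self (inv_ne_zero hx0)]; exact ⟨hone z', hone z'⟩
  · dsimp only
    split_ifs with h
    · exact ⟨hone z, by rwa [one_mul]⟩
    · exact ⟨(inR_or k hdim z x).resolve_left h, by rw [inv_mul_cancel₀ hx0]; exact hone z⟩

theorem exists_two_sections :
    ∃ L : X.Modules, PicF.IsInvertible L ∧ 2 ≤ Module.finrank k (Coh.HH X L 0) := by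
  haveI := CurveCohLib.isNoetherian_of_proper (k := k) (X := X)
  obtain ⟨x, hx, -⟩ := isFF k X hdim
  have hx0 : x ≠ 0 := fun e => hx (e ▸ isAlgebraic_zero)
  obtain ⟨D, hD⟩ := exists_eqns_of_ne_zero k hdim hx0
  refine ⟨CurveCohLib.Polar.mod D 1, isInvertible_mod D 1, ?_⟩
  obtain ⟨s, hs⟩ := exists_v0 (D := D) (n := 1) (c := (1 : X.functionField)) fun z => by
    rw [pow_one, mul_one]; exact (hD z).1
  obtain ⟨t, ht⟩ := exists_v0 (D := D) (n := 1) (c := x) fun z => by
    rw [pow_one]; exact (hD z).2
  haveI := CurveCohLib.finite_HH (k := k) (isCoh_mod D 1) 0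
  have hli : LinearIndependent k ![s, t] := by
    rw [LinearIndependent.pair_iff]
    intro a b hab
    have h := congrArg (v0 (D := D) (n := 1)) hab
    rw [map_add, v0_smul, v0_smul, map_zero, hs, ht, mul_one, cK_eq, cK_eq] at h
    have hb : b = 0 := by
      by_contra hb
      have hxa : x = algebraMap k X.functionField (-a / b) := by
        rw [map_div₀, map_neg, eq_div_iff (by simpa using hb)]
        linear_combination h
      exact hx (hxa ▸ isAlgebraic_algebraMap _)
    subst hb
    exact ⟨by simpa using h, rfl⟩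
  simpa using hli.fintype_card_le_finrank

variable [GeometricallyIrreducible (X ↘ Spec (CommRingCat.of k))]

omit hdim in
theorem finrank_h0_one : Module.finrank k (Coh.HH X (Coh.structureModule X) 0) = 1 := by
  rw [GeomField.finrank_HH_zero]
  have hb : Function.Bijective (algebraMap k Γ(X, ⊤)) := by
    show Function.Bijective ((X ↘ Spec (CommRingCat.of k)).appTop.hom.comp
      (Scheme.ΓSpecIso (CommRingCat.of k)).inv.hom)
    exact (bijective_appTop k X).comp (ConcreteCategory.bijective_of_isIso (Scheme.ΓSpecIso (CommRingCat.of k)).inv)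
  exact (LinearEquiv.ofBijective (Algebra.linearMap k Γ(X, ⊤)) hb).finrank_eq.symm.trans (Module.finrank_self k)

theorem isFunField : FunFld.IsFunctionField k X.functionField :=
  isFunctionField k X hdim (bijective_appTop k X)

theorem deg_eq_h0_sub_h1 {L : X.Modules} (hL : PicF.IsInvertible L) :
    Curv2.deg k X L 1 =
      (Module.finrank k (Coh.HH X L 0) : ℤ) - Module.finrank k (Coh.HH X L 1) + Curv2.genus k X - 1 := by
  haveI := CurveCohLib.isNoetherian_of_proper (k := k) (X := X)
  have hO := CurveCohLib.Nonspecial.euler_structure k hdim (finrank_h0_one k (X := X))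
  have hχ := CurveRR.euler_eq_h0_sub_h1 k hdim.le (CurveDeg.isCoh_of_isInvertible hL).1
  rw [Curv2.deg, hO, hχ]
  push_cast
  ring

/-- Twists by the powers of a module. -/
theorem exists_twist {U₀ : X.Opens} (h₀ : genericPoint X ∈ U₀) {M J : X.Modules}
    (hM : PicF.IsInvertible M) (hJ : PicF.IsInvertible J) {a : Γ(M, U₀)} (ha : InvX.IsFrame a)
    {b : Γ(J, U₀)} (hb : InvX.IsFrame b) (n : ℕ) :
    ∃ (L : X.Modules) (hL : PicF.IsInvertible L) (c : Γ(L, U₀)) (hc : InvX.IsFrame c),
      Curv2.deg k X L 1 = Curv2.deg k X M 1 + n * Curv2.deg k X J 1 ∧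
      (divisor k hdim hL hc h₀).deg = (divisor k hdim hM ha h₀).deg + n * (divisor k hdim hJ hb h₀).deg := by
  induction n with
  | zero => exact ⟨M, hM, a, ha, by simp, by simp⟩
  | succ n ih =>
    obtain ⟨L, hL, c, hc, h1, h2⟩ := ih
    refine ⟨CohB1.tensorMod L J, InvX.isInvertible_tensorMod hL hJ, InvX.tmul c b,
      InvX.isFrame_tmul hc hb, ?_, ?_⟩
    · rw [show Curv2.deg k X (CohB1.tensorMod L J) 1 = _ from CurveRR.deg_tensor k hdim hL hJ, h1]
      push_cast; ring
    · rw [divisor_tensor k hdim hL hc h₀ hJ hb, FFLib.Divisor.deg_add, h2]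
      push_cast; ring

/-- The degree through the divisor and the genus of the function field, together. -/
theorem deg_and_genus {M : X.Modules} (hM : PicF.IsInvertible M) {U₁ : X.Opens}
    (h₁ : genericPoint X ∈ U₁) {a : Γ(M, U₁)} (ha : InvX.IsFrame a) :
    (∃ (U₀ : X.Opens) (h₀ : genericPoint X ∈ U₀) (hle : U₀ ≤ U₁),
      Curv2.deg k X M 1 = (divisor k hdim hM (ha.res hle) h₀).deg) ∧
    FunFld.genus k X.functionField = Curv2.genus k X := by
  haveI := CurveCohLib.isNoetherian_of_proper (k := k) (X := X)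
  have hK := isFunField k hdim
  obtain ⟨J, hJ, hJ2⟩ := exists_two_sections k hdim
  obtain ⟨V, hV, b, hb⟩ := InvX.exists_frame hJ (genericPoint X)
  let U₀ := U₁ ⊓ V
  have h₀ : genericPoint X ∈ U₀ := ⟨h₁, hV⟩
  have haU := ha.res (inf_le_left : U₀ ≤ U₁)
  have hbU := hb.res (inf_le_right : U₀ ≤ V)
  set δ := (divisor k hdim hJ hbU h₀).deg with hδdef
  set dM := (divisor k hdim hM haU h₀).deg with hdM
  have hδ : 1 ≤ δ := by
    have h1 := finrank_h0_eq_ell k hdim hJ hbU h₀
    have h2 := CurveFF.ell_le_succ hK (D := divisor k hdim hJ hbU h₀) (by omega)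
    omega
  have key : ∀ (N : X.Modules) (hN : PicF.IsInvertible N) (e : Γ(N, U₀)) (he : InvX.IsFrame e),
      2 * (FunFld.genus k X.functionField : ℤ) - 2 < (divisor k hdim hN he h₀).deg →
      (Curv2.genus k X : ℤ) + (FunFld.genus k X.functionField : ℤ) ≤ (divisor k hdim hN he h₀).deg →
      Curv2.deg k X N 1 = (divisor k hdim hN he h₀).deg
        + Curv2.genus k X - FunFld.genus k X.functionField := by
    intro N hN e he hd hd'
    have h1 := finrank_h0_eq_ell k hdim hN he h₀
    have h2 := FFLib.ell_of_deg_gt hK hd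
    haveI hsub : Subsingleton (Coh.HH X N 1) := CurveCohLib.Nonspecial.h1_of_sections k hdim
      (CurveDeg.isCoh_of_isInvertible hN)
      (fun φ hφ => CurveCohLib.Nonspecial.section_of_sub k (CurveDeg.isCoh_of_isInvertible hN) hN (𝟙 N) φ hφ)
      (by omega)
    rw [deg_eq_h0_sub_h1 k hdim hN, h1, Module.finrank_zero_of_subsingleton (R := k) (M := Coh.HH X N 1)]
    push_cast
    omega
  set g := FunFld.genus k X.functionField
  set g' := Curv2.genus k X
  have hlin : ∀ (N : X.Modules) (hN : PicF.IsInvertible N) (e : Γ(N, U₀)) (he : InvX.IsFrame e),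
      ∃ n₀ : ℕ, ∀ n : ℕ, n₀ ≤ n → Curv2.deg k X N 1 + n * Curv2.deg k X J 1 =
        (divisor k hdim hN he h₀).deg + n * δ + g' - g := by
    intro N hN e he
    refine ⟨(2 * (g : ℤ) + g' + |(divisor k hdim hN he h₀).deg| + 1).toNat, fun n hn => ?_⟩
    obtain ⟨L, hL, c, hc, e1, e2⟩ := exists_twist k hdim h₀ hN hJ he hbU n
    have hn' : 2 * (g : ℤ) + g' + |(divisor k hdim hN he h₀).deg| + 1 ≤ n := by omega
    have hnδ : (n : ℤ) ≤ n * δ := le_mul_of_one_le_right (by omega) hδ
    have habs := neg_abs_le (divisor k hdim hN he h₀).deg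
    rw [← hδdef] at e2
    have := key L hL c hc (by rw [e2]; omega) (by rw [e2]; omega)
    rw [e1, e2] at this
    omega
  obtain ⟨nJ, hnJ⟩ := hlin J hJ _ hbU
  have j1 := hnJ nJ le_rfl
  have j2 := hnJ (nJ + 1) (by omega)
  have hdJ : Curv2.deg k X J 1 = δ := by push_cast at j2; linarith
  have hg : g = g' := by
    rw [hdJ] at j1
    omega
  obtain ⟨nM, hnM⟩ := hlin M hM _ haU
  have m1 := hnM nM le_rfl
  rw [hdJ] at m1
  exact ⟨⟨U₀, h₀, inf_le_left, by omega⟩, hg⟩

theorem genus_eq : FunFld.genus k X.functionField = Curv2.genus k X := by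
  obtain ⟨J, hJ, -⟩ := exists_two_sections k hdim
  obtain ⟨V, hV, b, hb⟩ := InvX.exists_frame hJ (genericPoint X)
  exact (deg_and_genus k hdim hJ hV hb).2

end Groth.Agent.ZH85.FCurve
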